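import Groth.Agent.LCI43.Obstruction
import Mathlib.RingTheory.Ideal.Quotient.Operations
import Mathlib.LinearAlgebra.FreeModule.Basic

/-! Lifting a free resolution along a first order thickening. -/

set_option autoImplicit false
set_option linter.unusedSectionVars false

universe u v

namespace Groth.Agent.LCI43

variable {P' P : Type u} [CommRing P'] [CommRing P] (π : P' →+* P) (hπ : Function.Surjective π)
  {ι : Type v} {E : Type u} [AddCommGroup E] [Module P E] (b : Module.Basis ι P E)

/-- Reduction of a free module. -/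
noncomputable def red (z : ι →₀ P') : E := Finsupp.linearCombination P b (Finsupp.mapRange π (map_zero π) z)

theorem red_add (z w : ι →₀ P') : red π b (z + w) = red π b z + red π b w := by
  simp [red, Finsupp.mapRange_add (map_add π)]

theorem red_zero : red π b 0 = 0 := by simp [red]

theorem red_single (i : ι) (t : P') : red π b (Finsupp.single i t) = π t • b i := by
  simp [red, Finsupp.mapRange_single]

theorem red_smul (t : P') (z : ι →₀ P') : red π b (t • z) = π t • red π b z := by
  induction z using Finsupp.induction_linear with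
  | zero => simp [red_zero]
  | add x y hx hy => simp [red_add, hx, hy, smul_add]
  | single i s => rw [Finsupp.smul_single, red_single, red_single, smul_smul, smul_eq_mul, map_mul]

theorem red_neg (z : ι →₀ P') : red π b (-z) = -red π b z := by
  rw [← neg_one_smul P', red_smul, map_neg, map_one, neg_one_smul]

theorem red_sum {κ : Type*} (s : Finset κ) (z : κ → ι →₀ P') :
    red π b (∑ k ∈ s, z k) = ∑ k ∈ s, red π b (z k) := by
  classical
  induction s using Finset.induction with
  | empty => simp [red_zero]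
  | insert k s hk ih => simp [Finset.sum_insert hk, red_add, ih]

include hπ in
theorem exists_red (e : E) : ∃ z, red π b z = e := by
  choose s hs using hπ
  refine ⟨(b.repr e).sum fun i c => Finsupp.single i (s c), ?_⟩
  rw [Finsupp.sum, red_sum]
  simp only [red_single, hs]
  conv_rhs => rw [← b.linearCombination_repr e, Finsupp.linearCombination_apply, Finsupp.sum]

theorem mapRange_eq_zero_of_red {z : ι →₀ P'} (h : red π b z = 0) (i : ι) : π (z i) = 0 := by
  have := congrArg b.repr h
  rw [red, b.repr_linearCombination, map_zero] at this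
  simpa using DFunLike.congr_fun this i

variable {f : P'}

theorem exists_eq_smul (hker : RingHom.ker π = Ideal.span {f}) {z : ι →₀ P'} (h : red π b z = 0) :
    ∃ w, z = f • w := by
  classical
  have hz : ∀ i, ∃ c, z i = f * c := fun i => by
    have : z i ∈ Ideal.span {f} := by rw [← hker]; exact mapRange_eq_zero_of_red π b h i
    obtain ⟨c, hc⟩ := Ideal.mem_span_singleton.1 this
    exact ⟨c, hc⟩
  choose c hc using hz
  exact ⟨∑ i ∈ z.support, Finsupp.single i (c i), by
    conv_lhs => rw [← Finsupp.sum_single z, Finsupp.sum]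
    simp only [Finset.smul_sum, Finsupp.smul_single, smul_eq_mul, ← hc]⟩

theorem red_mem_smul {z : ι →₀ P'} (h : f • z = 0) :
    red π b z ∈ ((Ideal.span {f}).annihilator.map π) • (⊤ : Submodule P E) := by
  rw [red, Finsupp.linearCombination_apply, Finsupp.sum_mapRange_index (by simp), Finsupp.sum]
  refine Submodule.sum_mem _ fun i _ => Submodule.smul_mem_smul (Ideal.mem_map_of_mem π ?_) trivial
  rw [Ideal.span, Submodule.mem_annihilator_span_singleton, smul_eq_mul, mul_comm, ← smul_eq_mul,
    ← Finsupp.smul_apply, h, Finsupp.zero_apply]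

include hπ in
theorem exists_red_of_mem_smul {e : E}
    (h : e ∈ ((Ideal.span {f}).annihilator.map π) • (⊤ : Submodule P E)) :
    ∃ z, red π b z = e ∧ f • z = 0 := by
  induction h using Submodule.smul_induction_on' with
  | smul c hc e _ =>
    obtain ⟨t, ht, rfl⟩ := (Ideal.mem_map_iff_of_surjective π hπ).1 hc
    obtain ⟨z, rfl⟩ := exists_red π hπ b e
    rw [Ideal.span, Submodule.mem_annihilator_span_singleton, smul_eq_mul] at ht
    exact ⟨t • z, red_smul π b t z, by rw [smul_smul, mul_comm, ht, zero_smul]⟩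
  | add x _ y _ hx hy =>
    obtain ⟨z, rfl, hz⟩ := hx
    obtain ⟨w, rfl, hw⟩ := hy
    exact ⟨z + w, red_add π b z w, by rw [smul_add, hz, hw, add_zero]⟩

variable {κ : Type v} {G : Type u} [AddCommGroup G] [Module P G] (c : Module.Basis κ P G)

include hπ in
theorem exists_lift (φ : E →ₗ[P] G) :
    ∃ D : (ι →₀ P') →ₗ[P'] (κ →₀ P'), ∀ z, red π c (D z) = φ (red π b z) := by
  choose y hy using fun i => exists_red π hπ c (φ (b i))
  refine ⟨Finsupp.linearCombination P' y, fun z => ?_⟩
  induction z using Finsupp.induction_linear with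
  | zero => simp [red_zero]
  | add x y hx hy => simp [red_add, hx, hy]
  | single i s => rw [Finsupp.linearCombination_single, red_smul, hy, red_single, map_smul]

section Main

variable {m : ℕ} (fs r : Fin m → P) {I : ℕ → Type v} {M : ℕ → Type u}
  [∀ n, AddCommGroup (M n)] [∀ n, Module P (M n)] (B : ∀ n, Module.Basis (I n) P (M n))

include hπ B in
/-- A free resolution of `P/(fs)` which is exact modulo `Ann(f)` in high degrees forces a power of
the obstruction into `(fs) + Ann(f)`. -/
theorem exists_pow_mem (hker : RingHom.ker π = Ideal.span {f}) (hf : f * f = 0)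
    (hrel : ∑ j, r j * fs j = 0) (hr : ∀ j, r j ∈ (Ideal.span {f}).annihilator.map π)
    (fs' r' : Fin m → P') (g : P') (hfs' : ∀ j, π (fs' j) = fs j) (hr' : ∀ j, π (r' j) = r j)
    (hsum : ∑ j, r' j * fs' j = f * g)
    (d : ∀ n, M (n + 1) →ₗ[P] M n) (hdd : ∀ n x, d n (d (n + 1) x) = 0)
    (hex : ∀ n (z : M (n + 1)), d n z = 0 → z ∈ LinearMap.range (d (n + 1)))
    (ε : M 0 →ₗ[P] P ⧸ Ideal.span (Set.range fs)) (e₀ : M 0) (hε : ε e₀ = 1)
    (hεd : ∀ z, ε z = 0 ↔ z ∈ LinearMap.range (d 0))
    (N₀ : ℕ) (hhigh : ∀ n, N₀ ≤ n → ∀ x : M (n + 1),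
      d n x ∈ ((Ideal.span {f}).annihilator.map π) • (⊤ : Submodule P (M n)) →
      x ∈ LinearMap.range (d (n + 1)) ⊔ ((Ideal.span {f}).annihilator.map π) • (⊤ : Submodule P (M (n + 1)))) :
    ∃ k, π g ^ k ∈ Ideal.span (Set.range fs) ⊔ (Ideal.span {f}).annihilator.map π := by
  classical
  haveI : Module.Free P (Lam P m) := Module.Free.of_basis (Pi.basisFun P (Fin m)).ExteriorAlgebra
  have he : ∀ a ∈ Ideal.span (Set.range fs), a • e₀ ∈ LinearMap.range (d 0) := fun a ha => by
    rw [← hεd, map_smul, hε, Algebra.smul_def, mul_one, Ideal.Quotient.algebraMap_eq,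
      Ideal.Quotient.eq_zero_iff_mem]
    exact ha
  obtain ⟨Φ, hΦ₀, hΦ⟩ := exists_extension fs r d hex hrel e₀ he
  let F : ℕ → Type _ := fun n => I n →₀ P'
  choose D hD using fun n => exists_lift π hπ (B (n + 1)) (B n) (d n)
  let e : Fin m → Lam P m := fun j => ExteriorAlgebra.ι P (Pi.single j (1 : P))
  choose Y hY using fun k => exists_red π hπ (B (2 * k)) (Φ (2 * k) k 1)
  choose V hV using fun k j => exists_red π hπ (B (2 * k + 1)) (Φ (2 * k + 1) k (e j))
  choose W₀ hW₀ using fun k l j => exists_red π hπ (B (2 * k)) (prev (Φ (2 * k)) k (e l * e j))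
  let W : ∀ k, Fin m → Fin m → F (2 * k) := fun k l j =>
    if l < j then W₀ k l j else if j < l then -W₀ k j l else 0
  have hW : ∀ k l j, red π (B (2 * k)) (W k l j) = prev (Φ (2 * k)) k (e l * e j) := fun k l j => by
    rcases lt_trichotomy l j with h | rfl | h
    · simp [W, h, hW₀]
    · simp [W, red_zero, e]
    · simp only [W, if_neg (lt_asymm h), if_pos h, red_neg, hW₀]
      rw [← map_neg, eq_neg_of_add_eq_zero_left
        (ExteriorAlgebra.ι_add_mul_swap _ _ : e j * e l + e l * e j = 0), neg_neg]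
  have hι : ExteriorAlgebra.ι P r = ∑ l, r l • e l := ι_eq_sum r
  have hy : ∀ k, red π (B (2 * k + 1)) (∑ j, r' j • V k j) = d (2 * k + 1) (Φ (2 * k + 1 + 1) (k + 1) 1) := fun k => by
    rw [red_sum, hΦ]
    simp only [red_smul, hr', hV, boundary, LinearMap.add_apply, LinearMap.comp_apply, kc_one, map_zero,
      zero_add, prev, kl, LinearMap.mulLeft_apply, mul_one]
    rw [hι, map_sum]
    simp only [map_smul]
  have hv : ∀ k j, red π (B (2 * k)) (fs' j • Y k + ∑ l, r' l • W k l j) = d (2 * k) (Φ (2 * k + 1) k (e j)) :=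
    fun k j => by
    rw [red_add, red_smul, hfs', hY, red_sum,
      Finset.sum_congr rfl fun l _ => red_smul π (B (2 * k)) (r' l) (W k l j), hΦ]
    simp only [red_smul, hr', hW, boundary, LinearMap.add_apply, LinearMap.comp_apply, e, kc_ι, pair_single,
      kl, LinearMap.mulLeft_apply, Algebra.algebraMap_eq_smul_one, map_smul]
    rw [hι, Finset.sum_mul, map_sum]
    simp only [smul_mul_assoc, map_smul, e]
  choose α hα using fun k => exists_eq_smul π (B (2 * k + 1)) hker
    (show red π (B (2 * k + 1)) (D (2 * k + 1) (Y (k + 1)) + -∑ j, r' j • V k j) = 0 by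
      rw [red_add, red_neg, hy, hD]
      erw [hY]
      exact add_neg_cancel _)
  choose β hβ using fun k j => exists_eq_smul π (B (2 * k)) hker
    (show red π (B (2 * k)) (D (2 * k) (V k j) + -(fs' j • Y k + ∑ l, r' l • W k l j)) = 0 by
      rw [red_add, red_neg, hv, hD, hV, add_neg_cancel])
  let L : LiftData f fs' r' D :=
    { y := Y, v := V, w := W, α := α, β := β
      w_self := fun k j => by simp [W]
      w_symm := fun k i j => by
        rcases lt_trichotomy i j with h | rfl | h
        · simp only [W, if_pos h, if_neg (lt_asymm h)]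
          exact add_neg_cancel _
        · simp only [W, if_neg (lt_irrefl i)]
          exact add_zero _
        · simp only [W, if_pos h, if_neg (lt_asymm h)]
          exact neg_add_cancel _
      dy := fun k => eq_add_of_sub_eq' (by rw [sub_eq_add_neg]; exact hα k)
      dv := fun k j => eq_add_of_sub_eq' (by rw [sub_eq_add_neg]; exact hβ k j) }
  have hann : ∀ j, f * r' j = 0 := fun j => by
    obtain ⟨t, ht, htr⟩ := (Ideal.mem_map_iff_of_surjective π hπ).1 (hr j)
    rw [Ideal.span, Submodule.mem_annihilator_span_singleton, smul_eq_mul] at ht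
    have : r' j - t ∈ Ideal.span {f} := by
      rw [← hker, RingHom.mem_ker, map_sub, hr', htr, sub_self]
    obtain ⟨c, hc⟩ := Ideal.mem_span_singleton.1 this
    rw [sub_eq_iff_eq_add.1 hc, mul_add, ← mul_assoc, hf, zero_mul, mul_comm f t, ht, add_zero]
  have hθ : ∀ n, ∃ θ : F (n + 1 + 1) →ₗ[P'] F n, ∀ x, D n (D (n + 1) x) = f • θ x := fun n => by
    choose w hw using fun i => exists_eq_smul π (B n) hker
      (show red π (B n) (D n (D (n + 1) (Finsupp.single i 1))) = 0 by rw [hD, hD, hdd])
    refine ⟨Finsupp.linearCombination P' w, fun x => ?_⟩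
    induction x using Finsupp.induction_linear with
    | zero => simp
    | add a b ha hb => simp only [map_add, ha, hb, smul_add]
    | single i s =>
      rw [← Finsupp.smul_single_one, map_smul, map_smul, map_smul, hw,
        Finsupp.linearCombination_single, one_smul, smul_comm]
  -- the top degree
  have htop : red π (B (2 * N₀ + 1 + 1)) (Y (N₀ + 1)) ∈ LinearMap.range (d (2 * N₀ + 1 + 1)) ⊔
      ((Ideal.span {f}).annihilator.map π) • (⊤ : Submodule P (M (2 * N₀ + 1 + 1))) := by
    refine hhigh _ (by omega) _ ?_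
    rw [← hD, show D (2 * N₀ + 1) (Y (N₀ + 1)) = ∑ j, r' j • V N₀ j + f • α N₀ from L.dy N₀]
    refine red_mem_smul π _ ?_
    rw [smul_add, Finset.smul_sum, smul_smul, hf, zero_smul, add_zero]
    exact Finset.sum_eq_zero fun j _ => by rw [smul_smul, hann, zero_smul]
  obtain ⟨_, ⟨a₀, rfl⟩, j₀, hj₀, hsum₀⟩ := Submodule.mem_sup.1 htop
  obtain ⟨a, rfl⟩ := exists_red π hπ (B (2 * N₀ + 1 + 1 + 1)) a₀
  obtain ⟨u, rfl, hu⟩ := exists_red_of_mem_smul π hπ (B (2 * N₀ + 1 + 1)) hj₀
  obtain ⟨w, hw⟩ := exists_eq_smul π (B (2 * N₀ + 1 + 1)) hker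
    (show red π (B (2 * N₀ + 1 + 1)) (Y (N₀ + 1) + -(D (2 * N₀ + 1 + 1) a + u)) = 0 by
      rw [red_add, red_neg, red_add, hD, hsum₀, add_neg_cancel])
  have hw' : Y (N₀ + 1) = D (2 * N₀ + 1 + 1) a + u + f • w :=
    eq_add_of_sub_eq' ((sub_eq_add_neg _ _).trans hw)
  obtain ⟨a', u', hu', h'⟩ := pow_mem_of_exact f fs' r' g L hann hsum hθ (N₀ + 1) 1
    ⟨a, u + f • w, by rw [smul_add, hu, smul_smul, hf, zero_smul, add_zero],
      (one_smul _ _).trans (hw'.trans (add_assoc _ _ _))⟩
  refine ⟨N₀ + 1, ?_⟩
  have h'' := congrArg (fun z => ε (red π (B (2 * 0)) z)) h'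
  simp only [one_mul] at h''
  erw [red_smul, red_add, hY, map_smul, hΦ₀, hε, map_add, hD, (hεd _).2 ⟨_, rfl⟩, zero_add] at h''
  have hmem : ε (red π (B 0) u') ∈ (((Ideal.span {f}).annihilator.map π) •
      (⊤ : Submodule P (P ⧸ Ideal.span (Set.range fs)))) :=
    Submodule.smul_top_le_comap_smul_top _ ε (red_mem_smul π (B 0) hu')
  erw [← h''] at hmem
  rw [Ideal.smul_top_eq_map, Submodule.restrictScalars_mem, Ideal.Quotient.algebraMap_eq,
    Algebra.smul_def, mul_one, Ideal.Quotient.algebraMap_eq, Ideal.mem_quotient_iff_mem_sup, map_pow, sup_comm] at hmem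
  exact hmem

end Main

end Groth.Agent.LCI43
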