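import Mathlib.LinearAlgebra.ExteriorAlgebra.Basis
import Mathlib.LinearAlgebra.CliffordAlgebra.Contraction
import Mathlib.RingTheory.Ideal.Operations

/-!
A resolution of `P/(f₁,…,fₘ)` receives the divided power extension of the Koszul complex along a
relation `∑ rⱼ fⱼ = 0`; lifting to a first order thickening shows that a resolution which is exact
modulo `I` in high degree forces a power of the obstruction `g` into `(f) + I`.
-/

set_option autoImplicit false
set_option linter.unusedSectionVars false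

universe u v

namespace Groth.Agent.LCI43

section Extension

variable {P : Type u} [CommRing P] {m : ℕ} (fs r : Fin m → P)

/-- The exterior algebra on `m` generators. -/
abbrev Lam (P : Type u) [CommRing P] (m : ℕ) := ExteriorAlgebra P (Fin m → P)

/-- Pairing with the generators. -/
def pair : Module.Dual P (Fin m → P) where
  toFun v := ∑ j, v j * fs j
  map_add' v w := by simp [add_mul, Finset.sum_add_distrib]
  map_smul' a v := by simp [Finset.mul_sum, mul_assoc]

theorem pair_single (j : Fin m) : pair fs (Pi.single j 1) = fs j := by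
  simp [pair, Pi.single_apply]

/-- Contraction with the generators. -/
noncomputable def kc : Lam P m →ₗ[P] Lam P m := CliffordAlgebra.contractLeft (pair fs)

/-- Multiplication by the relation. -/
noncomputable def kl : Lam P m →ₗ[P] Lam P m :=
  LinearMap.mulLeft P (ExteriorAlgebra.ι P r)

theorem kc_kc (x : Lam P m) : kc fs (kc fs x) = 0 :=
  CliffordAlgebra.contractLeft_contractLeft (pair fs) x

theorem kl_kl (x : Lam P m) : kl r (kl r x) = 0 := by
  simp only [kl, LinearMap.mulLeft_apply, ← mul_assoc, ExteriorAlgebra.ι_sq_zero, zero_mul]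

theorem kc_kl (hrel : ∑ j, r j * fs j = 0) (x : Lam P m) : kc fs (kl r x) + kl r (kc fs x) = 0 := by
  have h : kc fs (kl r x) = pair fs r • x - kl r (kc fs x) :=
    CliffordAlgebra.contractLeft_ι_mul (pair fs) r x
  rw [h, show pair fs r = 0 from hrel, zero_smul, zero_sub, neg_add_cancel]

theorem kc_one : kc fs (1 : Lam P m) = 0 := CliffordAlgebra.contractLeft_one _ (pair fs)

theorem kc_ι (v : Fin m → P) :
    kc fs (ExteriorAlgebra.ι P v) = algebraMap P (Lam P m) (pair fs v) :=
  CliffordAlgebra.contractLeft_ι _ (pair fs) v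

theorem ι_eq_sum (v : Fin m → P) :
    ExteriorAlgebra.ι P v = ∑ j, v j • ExteriorAlgebra.ι P (Pi.single j (1 : P)) := by
  conv_lhs => rw [← (Pi.basisFun P (Fin m)).sum_repr v]
  simp [map_sum, map_smul]

/-- The scalar part. -/
noncomputable def scalarPart : Lam P m →ₗ[P] P :=
  (ExteriorAlgebra.algebraMapInv : Lam P m →ₐ[P] P).toLinearMap

theorem scalarPart_kl (x : Lam P m) : scalarPart (kl r x) = 0 := by
  show ExteriorAlgebra.algebraMapInv (ExteriorAlgebra.ι P r * x) = 0
  simp [ExteriorAlgebra.algebraMapInv]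

theorem scalarPart_kc_mem (x : Lam P m) : scalarPart (kc fs x) ∈ Ideal.span (Set.range fs) := by
  induction x using CliffordAlgebra.left_induction with
  | algebraMap a =>
    rw [show kc fs (algebraMap P _ a) = 0 from CliffordAlgebra.contractLeft_algebraMap _ (pair fs) a, map_zero]
    exact zero_mem _
  | add x y hx hy => rw [map_add, map_add]; exact add_mem hx hy
  | ι_mul x v hx =>
    rw [show kc fs (CliffordAlgebra.ι _ v * x) = pair fs v • x - kl v (kc fs x) from
      CliffordAlgebra.contractLeft_ι_mul (pair fs) v x, map_sub, map_smul, scalarPart_kl, sub_zero,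
      smul_eq_mul]
    refine Ideal.mul_mem_right _ _ ?_
    show ∑ j, v j * fs j ∈ Ideal.span (Set.range fs)
    exact sum_mem fun j _ => Ideal.mul_mem_left _ _ (Ideal.subset_span (Set.mem_range_self j))

variable {F : ℕ → Type v} [∀ n, AddCommGroup (F n)] [∀ n, Module P (F n)]

/-- Shift of a family by one divided power. -/
noncomputable def prev {n : ℕ} (Φ : ℕ → Lam P m →ₗ[P] F n) : ℕ → Lam P m →ₗ[P] F n
  | 0 => 0
  | k + 1 => Φ k

/-- The prescribed boundary of the next family. -/
noncomputable def boundary {n : ℕ} (Φ : ℕ → Lam P m →ₗ[P] F n) (k : ℕ) : Lam P m →ₗ[P] F n :=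
  Φ k ∘ₗ kc fs + prev Φ k ∘ₗ kl r

theorem exists_extension [Module.Projective P (Lam P m)] (d : ∀ n, F (n + 1) →ₗ[P] F n)
    (hex : ∀ n (z : F (n + 1)), d n z = 0 → z ∈ LinearMap.range (d (n + 1)))
    (hrel : ∑ j, r j * fs j = 0) (e₀ : F 0) (he : ∀ a ∈ Ideal.span (Set.range fs), a • e₀ ∈ LinearMap.range (d 0)) :
    ∃ Φ : ∀ n, ℕ → Lam P m →ₗ[P] F n, Φ 0 0 1 = e₀ ∧
      ∀ n k x, d n (Φ (n + 1) k x) = boundary fs r (Φ n) k x := by
  classical
  let Good : ∀ n, (ℕ → Lam P m →ₗ[P] F n) → Prop := fun n Φ =>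
    ∀ k x, boundary fs r Φ k x ∈ LinearMap.range (d n)
  let Φ₀ : ℕ → Lam P m →ₗ[P] F 0 := fun k => if k = 0 then scalarPart.smulRight e₀ else 0
  have h₀ : Good 0 Φ₀ := fun k x => by
    rcases k with _ | _ | k
    · simp [boundary, prev, Φ₀, he _ (scalarPart_kc_mem fs x)]
    · simp [boundary, prev, Φ₀, scalarPart_kl]
    · simp [boundary, prev, Φ₀]
  have step : ∀ n, ∀ Φ : {Φ // Good n Φ}, ∃ Φ' : {Φ' // Good (n + 1) Φ'},
      ∀ k x, d n (Φ'.1 k x) = boundary fs r Φ.1 k x := by
    intro n Φ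
    have lift : ∀ k, ∃ h : Lam P m →ₗ[P] F (n + 1), ∀ x, d n (h x) = boundary fs r Φ.1 k x := fun k => by
      obtain ⟨h, hh⟩ := Module.projective_lifting_property (d n).rangeRestrict
        ((boundary fs r Φ.1 k).codRestrict (LinearMap.range (d n)) (Φ.2 k)) (d n).surjective_rangeRestrict
      exact ⟨h, fun x => congrArg Subtype.val (LinearMap.congr_fun hh x)⟩
    choose h hh using lift
    refine ⟨⟨h, fun k x => hex n _ ?_⟩, hh⟩
    have hz : kc fs (kl r x) + kl r (kc fs x) = 0 := kc_kl fs r hrel x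
    rcases k with _ | _ | k
    · simp [boundary, prev, hh, kc_kc]
    · have e : kc fs (kl r x) = -kl r (kc fs x) := eq_neg_of_add_eq_zero_left hz
      simp [boundary, prev, hh, kc_kc, e]
    · have e : kc fs (kl r x) = -kl r (kc fs x) := eq_neg_of_add_eq_zero_left hz
      simp [boundary, prev, hh, kc_kc, kl_kl, e]
  choose next hnext using step
  let Φ : ∀ n, {Φ // Good n Φ} := fun n => Nat.rec ⟨Φ₀, h₀⟩ next n
  refine ⟨fun n => (Φ n).1, ?_, fun n => hnext n (Φ n)⟩
  show Φ₀ 0 1 = e₀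
  simp [Φ₀, scalarPart, ExteriorAlgebra.algebraMapInv]

end Extension

section Descent

variable {P' : Type u} [CommRing P'] (f : P') {m : ℕ} (fs' r' : Fin m → P') (g : P')
  {F : ℕ → Type v} [∀ n, AddCommGroup (F n)] [∀ n, Module P' (F n)]

/-- Lifted data of the extension: `d'y_{k+1} = ∑ rⱼ vⱼ`, `d'vⱼ = fⱼ y + ∑ r_l w_{lj}` modulo `f`. -/
structure LiftData (D : ∀ n, F (n + 1) →ₗ[P'] F n) where
  y : ∀ k, F (2 * k)
  v : ∀ k, Fin m → F (2 * k + 1)
  w : ∀ k, Fin m → Fin m → F (2 * k)
  α : ∀ k, F (2 * k + 1)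
  β : ∀ k, Fin m → F (2 * k)
  w_self : ∀ k j, w k j j = 0
  w_symm : ∀ k i j, w k i j + w k j i = 0
  dy : ∀ k, D (2 * k + 1) (y (k + 1)) = ∑ j, r' j • v k j + f • α k
  dv : ∀ k j, D (2 * k) (v k j) = fs' j • y k + ∑ l, r' l • w k l j + f • β k j

theorem sum_mul_smul_alternating {M : Type v} [AddCommGroup M] [Module P' M] (c : Fin m → P')
    (w : Fin m → Fin m → M) (h₀ : ∀ j, w j j = 0) (h : ∀ i j, w i j + w j i = 0) :
    ∑ j, ∑ l, (c j * c l) • w l j = 0 := by
  rw [← Fintype.sum_prod_type']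
  refine Finset.sum_ninvolution (fun a => (a.2, a.1)) ?_ ?_ (fun a => Finset.mem_univ _) (fun a => rfl)
  · intro a
    rw [mul_comm (c a.2), ← smul_add, h, smul_zero]
  · rintro ⟨i, j⟩ ha he
    have hji : j = i := congrArg Prod.fst he
    subst hji
    exact ha (by simp [h₀])

theorem pow_mem_of_exact {D : ∀ n, F (n + 1) →ₗ[P'] F n} (L : LiftData f fs' r' D)
    (hr : ∀ j, f * r' j = 0) (hsum : ∑ j, r' j * fs' j = f * g)
    (hθ : ∀ n, ∃ θ : F (n + 1 + 1) →ₗ[P'] F n, ∀ x, D n (D (n + 1) x) = f • θ x) (k : ℕ) :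
    ∀ G : P', (∃ a u, f • u = 0 ∧ G • L.y k = D (2 * k) a + u) →
      ∃ a u, f • u = 0 ∧ (G * g ^ k) • L.y 0 = D 0 a + u := by
  induction k with
  | zero => intro G h; simpa using h
  | succ k ih =>
    rintro G ⟨a, u, hu, h⟩
    obtain ⟨θ, hθ₀⟩ := hθ (2 * k)
    obtain ⟨θ₁, hθ₁⟩ := hθ (2 * k + 1)
    have hdd : D (2 * k) (D (2 * k + 1) (L.y (k + 1))) = f • (g • L.y k + D (2 * k) (L.α k)) := by
      rw [L.dy, map_add, map_sum, map_smul, smul_add, smul_smul, ← hsum, Finset.sum_smul]
      congr 1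
      simp only [map_smul, L.dv, smul_add, Finset.smul_sum, smul_smul, Finset.sum_add_distrib]
      have hβ : ∑ j, (r' j * f) • L.β k j = 0 :=
        Finset.sum_eq_zero fun j _ => by rw [mul_comm (r' j) f, hr, zero_smul]
      rw [sum_mul_smul_alternating r' (L.w k) (L.w_self k) (L.w_symm k), hβ, add_zero, add_zero]
    have key : f • (G • g • L.y k + G • D (2 * k) (L.α k) - D (2 * k) (θ₁ a)) = 0 := by
      have h2 := congrArg (fun z => D (2 * k) (D (2 * k + 1) z)) h
      simp only [map_smul, hdd, map_add] at h2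
      have h3 : D (2 * k) (D (2 * k + 1) (D (2 * k + 1 + 1) a)) = f • D (2 * k) (θ₁ a) := by
        rw [hθ₁, map_smul]
      have h4 : D (2 * k) (D (2 * k + 1) u) = 0 := by
        rw [hθ₀, ← map_smul, hu, map_zero]
      erw [h3, h4, add_zero] at h2
      rw [smul_sub, ← h2, ← smul_add, smul_comm, sub_self]
    have := ih (G * g) ⟨θ₁ a - G • L.α k, _, key, by rw [map_sub, map_smul, mul_smul]; abel⟩
    rwa [mul_assoc, ← pow_succ'] at this

end Descent

end Groth.Agent.LCI43
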