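import Groth.Agent.DR39.Balance
import Groth.Agent.DR39.Restrict
import Mathlib.LinearAlgebra.TensorProduct.Quotient
import Mathlib.Algebra.Homology.ShortComplex.Exact

/-! A free resolution over a free algebra computes `Tor` over the base. -/

set_option autoImplicit false
set_option linter.unusedSectionVars false
set_option linter.style.haveILetI false

universe u

open CategoryTheory CategoryTheory.Limits TensorProduct
attribute [local instance] HasDerivedCategory.standard
open Groth.Agent.DR39

namespace Groth.Agent.LCI43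

variable {R P : Type u} [CommRing R] [CommRing P] [Algebra R P]

theorem mem_smul_iff_tmul {E : ModuleCat.{u} P} (I : Ideal R)
    (x : (ModuleCat.restrictScalars (algebraMap R P)).obj E) :
    (show E from x) ∈ (I.map (algebraMap R P)) • (⊤ : Submodule P E) ↔
      x ⊗ₜ[R] (Ideal.Quotient.mk I 1) = 0 := by
  let E' := (ModuleCat.restrictScalars (algebraMap R P)).obj E
  let ι : E →+ E' := { toFun := fun e => e, map_zero' := rfl, map_add' := fun _ _ => rfl }
  constructor
  · intro hx
    let K : Submodule P E :=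
      { carrier := {e | ∀ q : P, ι (q • e) ⊗ₜ[R] (Ideal.Quotient.mk I 1) = 0}
        zero_mem' := fun q => by rw [smul_zero, map_zero, TensorProduct.zero_tmul]
        add_mem' := fun {a b} ha hb q => by
          rw [smul_add, map_add, TensorProduct.add_tmul, ha q, hb q, add_zero]
        smul_mem' := fun c e he q => by
          rw [smul_smul]
          exact he _ }
    have hle : (I.map (algebraMap R P)) • (⊤ : Submodule P E) ≤ K := by
      refine Submodule.smul_le.2 fun c hc e _ => ?_
      induction hc using Submodule.span_induction generalizing e with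
      | mem c hc =>
        obtain ⟨a, ha, rfl⟩ := hc
        intro q
        rw [smul_comm q _ e, show ι (algebraMap R P a • q • e) = a • ι (q • e) from rfl,
          TensorProduct.smul_tmul]
        rw [show a • (Ideal.Quotient.mk I 1) = 0 by
          rw [Algebra.smul_def, Ideal.Quotient.algebraMap_eq, ← map_mul, mul_one, Ideal.Quotient.eq_zero_iff_mem]
          exact ha]
        exact TensorProduct.tmul_zero _ _
      | zero => rw [zero_smul]; exact K.zero_mem
      | add a b _ _ ha hb => rw [add_smul]; exact K.add_mem (ha e trivial) (hb e trivial)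
      | smul a b _ hb => rw [smul_eq_mul, mul_smul]; exact K.smul_mem a (hb e trivial)
    have := hle hx 1
    rwa [one_smul] at this
  · intro h
    have h' := congrArg (TensorProduct.tensorQuotEquivQuotSMul E' I) h
    rw [map_zero, map_one] at h'
    erw [TensorProduct.tensorQuotEquivQuotSMul_tmul_mk] at h'
    rw [one_smul, Submodule.Quotient.mk_eq_zero] at h'
    clear h
    induction h' using Submodule.smul_induction_on' with
    | smul a ha e _ => exact Submodule.smul_mem_smul (Ideal.mem_map_of_mem _ ha) trivial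
    | add a _ b _ ha hb => exact add_mem ha hb

/-- A free resolution of `S` over `P` which, if `S` has finite Tor dimension over `R`, is exact modulo
any ideal of `R` in high degrees. -/
theorem exists_resolution [Module.Free R P] (S : Type u) [AddCommGroup S] [Module P S] [Module R S]
    [IsScalarTower R P S] (hS : DRing.HasFiniteTorDim R S) :
    ∃ (M : ℕ → ModuleCat.{u} P) (_ : ∀ n, Module.Free P (M n)) (d : ∀ n, M (n + 1) →ₗ[P] M n)
      (ε : M 0 →ₗ[P] S) (N₀ : ℕ),
      (∀ n x, d n (d (n + 1) x) = 0) ∧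
      (∀ n z, d n z = 0 → z ∈ LinearMap.range (d (n + 1))) ∧
      Function.Surjective ε ∧ (∀ z, ε z = 0 ↔ z ∈ LinearMap.range (d 0)) ∧
      ∀ (I : Ideal R) n, N₀ ≤ n → ∀ x : M (n + 1),
        d n x ∈ (I.map (algebraMap R P)) • (⊤ : Submodule P (M n)) →
        x ∈ LinearMap.range (d (n + 1)) ⊔ (I.map (algebraMap R P)) • (⊤ : Submodule P (M (n + 1))) := by
  obtain ⟨dim, hd⟩ := hS
  obtain ⟨E, hEv, hEf, ⟨e⟩⟩ := exists_free_res (A := P) S
  obtain ⟨f, hf⟩ := exists_qis_to_sgl hEv (fun i => proj_of_FR (hEf i)) (ModuleCat.of P S) e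
  let φ := algebraMap R P
  let E' := (DRing.restrictCx φ).obj E
  have hlow : LowEx E' (-(dim : ℤ)) := by
    have hflat : ∀ i, Module.Flat R (E'.X i) := fun i => by
      let : Module R (E.X i) := Module.compHom (E.X i) φ
      haveI : IsScalarTower R P (E.X i) := IsScalarTower.of_algebraMap_smul fun _ _ => rfl
      haveI : Module.Free P (E.X i) := hEf i
      haveI : Module.Free R (E.X i) := Module.Free.trans (R := R) (S := P) (M := E.X i)
      exact (inferInstance : Module.Flat R (E.X i))
    have hk : DRing.IsKFlat R E' :=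
      isKFlat_of_flat 0 (fun i hi => (ModuleCat.restrictScalars φ).map_isZero (hEv i hi)) hflat
    let l : (ModuleCat.restrictScalars φ).obj (ModuleCat.of P S) ≃ₗ[R] S :=
      { toFun := fun x => x
        invFun := fun x => x
        map_add' := fun _ _ => rfl
        map_smul' := fun a x => algebraMap_smul (M := S) P a x
        left_inv := fun _ => rfl
        right_inv := fun _ => rfl }
    exact ((ta_iff _ 0 E' hk ((restrictDIso φ E).symm ≪≫ (DRing.restrictD φ).mapIso e ≪≫
      ((ModuleCat.restrictScalars.{u} φ).mapDerivedCategorySingleFunctor 0).app _ ≪≫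
      (DerivedCategory.singleFunctor (ModuleCat.{u} R) 0).mapIso l.toModuleIso)).1
        ((hasTorDimLE_iff (A := R) S dim).1 hd)).2
  let d : ∀ n : ℕ, E.X (-((n + 1 : ℕ) : ℤ)) →ₗ[P] E.X (-(n : ℤ)) :=
    fun n => (E.d (-((n + 1 : ℕ) : ℤ)) (-(n : ℤ))).hom
  refine ⟨fun n => E.X (-(n : ℤ)), fun n => hEf _, d,
    ((f.f 0) ≫ (HomologicalComplex.singleObjXSelf (ComplexShape.up ℤ) 0 _).hom).hom, dim,
    fun n x => ?_, fun n z hz => ?_, ?_, ?_, fun I n hn x hx => ?_⟩
  · exact LinearMap.congr_fun (congrArg ModuleCat.Hom.hom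
      (E.d_comp_d (-((n + 1 + 1 : ℕ) : ℤ)) (-((n + 1 : ℕ) : ℤ)) (-(n : ℤ)))) x
  · have h1 : E.ExactAt (-((n + 1 : ℕ) : ℤ)) := by
      rw [HomologicalComplex.exactAt_iff_isZero_homology]
      exact (HomologicalComplex.exactAt_single_obj (ComplexShape.up ℤ) 0 (ModuleCat.of P S) _
        (by omega)).isZero_homology.of_iso (isoOfQuasiIsoAt f _)
    rw [HomologicalComplex.exactAt_iff' E (-((n + 1 + 1 : ℕ) : ℤ)) (-((n + 1 : ℕ) : ℤ)) (-(n : ℤ))
      (by simp; omega) (by simp), ShortComplex.moduleCat_exact_iff] at h1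
    exact h1 z hz
  · have hq : QuasiIsoAt f 0 := inferInstance
    rw [quasiIsoAt_iff' f (-1) 0 1 (by simp) (by simp), ShortComplex.quasiIso_iff_of_zeros'
      _ ((hEv 1 one_pos).eq_of_tgt _ _)
      ((HomologicalComplex.isZero_single_obj_X (ComplexShape.up ℤ) 0 (ModuleCat.of P S) (-1) (by omega)).eq_of_src _ _)
      ((HomologicalComplex.isZero_single_obj_X (ComplexShape.up ℤ) 0 (ModuleCat.of P S) 1 (by omega)).eq_of_tgt _ _)] at hq
    exact ((HomologicalComplex.singleObjXSelf (ComplexShape.up ℤ) 0 (ModuleCat.of P S)).toLinearEquiv.surjective).comp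
      ((ModuleCat.epi_iff_surjective _).1 hq.2)
  · intro z
    have hq : QuasiIsoAt f 0 := inferInstance
    rw [quasiIsoAt_iff' f (-1) 0 1 (by simp) (by simp), ShortComplex.quasiIso_iff_of_zeros'
      _ ((hEv 1 one_pos).eq_of_tgt _ _)
      ((HomologicalComplex.isZero_single_obj_X (ComplexShape.up ℤ) 0 (ModuleCat.of P S) (-1) (by omega)).eq_of_src _ _)
      ((HomologicalComplex.isZero_single_obj_X (ComplexShape.up ℤ) 0 (ModuleCat.of P S) 1 (by omega)).eq_of_tgt _ _),
      ShortComplex.moduleCat_exact_iff] at hq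
    constructor
    · intro hz
      exact hq.1 z ((HomologicalComplex.singleObjXSelf (ComplexShape.up ℤ) 0 (ModuleCat.of P S)).toLinearEquiv.injective
        (hz.trans (map_zero _).symm))
    · rintro ⟨w, rfl⟩
      show (HomologicalComplex.singleObjXSelf (ComplexShape.up ℤ) 0 (ModuleCat.of P S)).hom.hom
        ((f.f 0).hom ((E.d (-1) 0).hom w)) = 0
      rw [show (f.f 0).hom ((E.d (-1) 0).hom w) = 0 from
        (LinearMap.congr_fun (congrArg ModuleCat.Hom.hom (f.comm (-1) 0)) w).symm.trans (by simp)]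
      exact map_zero _
  · let N := ModuleCat.of R (R ⧸ I)
    obtain ⟨i, rfl⟩ : ∃ i, n = i := ⟨n, rfl⟩
    have hT := (isZero_tensorCx_iff E' N (-((n + 1 : ℕ) : ℤ))).1 (hlow N _ (by omega))
    have hx1 : (E'.d (-((n + 1 : ℕ) : ℤ)) (-((n + 1 : ℕ) : ℤ) + 1)).hom.rTensor N
        ((show E'.X (-((n + 1 : ℕ) : ℤ)) from x) ⊗ₜ[R] (Ideal.Quotient.mk I 1)) = 0 := by
      have e : -((n + 1 : ℕ) : ℤ) + 1 = -(n : ℤ) := by omega
      rw [e, LinearMap.rTensor_tmul]
      exact (mem_smul_iff_tmul I _).1 hx
    obtain ⟨w, hw⟩ := hT _ hx1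
    have e' : -((n + 1 : ℕ) : ℤ) - 1 = -((n + 1 + 1 : ℕ) : ℤ) := by omega
    revert w
    rw [e']
    intro w hw
    obtain ⟨w₀, rfl⟩ : ∃ w₀ : E'.X (-((n + 1 + 1 : ℕ) : ℤ)), w₀ ⊗ₜ[R] (Ideal.Quotient.mk I 1) = w := by
      clear hw
      induction w with
      | zero => exact ⟨0, TensorProduct.zero_tmul _ _⟩
      | tmul a b =>
        obtain ⟨b, rfl⟩ := Ideal.Quotient.mk_surjective b
        refine ⟨b • a, ?_⟩
        rw [TensorProduct.smul_tmul, Algebra.smul_def, Ideal.Quotient.algebraMap_eq, ← map_mul, mul_one]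
      | add a b ha hb =>
        obtain ⟨a', rfl⟩ := ha
        obtain ⟨b', rfl⟩ := hb
        exact ⟨a' + b', TensorProduct.add_tmul _ _ _⟩
    refine Submodule.mem_sup.2 ⟨_, ⟨w₀, rfl⟩, x - d (n + 1) w₀, ?_, add_sub_cancel _ _⟩
    refine (mem_smul_iff_tmul I (show E'.X (-((n + 1 : ℕ) : ℤ)) from x - d (n + 1) w₀)).2 ?_
    rw [LinearMap.rTensor_tmul] at hw
    exact (TensorProduct.sub_tmul _ _ _).trans (sub_eq_zero.2 hw.symm)

end Groth.Agent.LCI43
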